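import Mathlib.RingTheory.LaurentSeries
import Mathlib.Topology.Algebra.MvPolynomial
import Mathlib.RingTheory.MvPolynomial.Basic
import Mathlib.RingTheory.Localization.Away.Basic

/-! Approximating a formal arc in an open of affine space by an arc with coefficients in rational
functions. -/

set_option autoImplicit false
universe u

open Polynomial
open scoped LaurentSeries RatFunc

namespace Groth.Agent.Lib.Arc98.Approx

variable {k K B : Type u} [Field k] [Field K] [Algebra k K] [CommRing B]

theorem valuation_coe_le_one (G : PowerSeries K) : Valued.v (G : K⸨X⸩) ≤ 1 :=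
  (LaurentSeries.val_le_one_iff_eq_coe K _).mpr ⟨G, rfl⟩

theorem constantCoeff_eq_zero_of_valuation_lt_one {G : PowerSeries K}
    (hG : Valued.v (G : K⸨X⸩) < 1) : PowerSeries.constantCoeff G = 0 := by
  by_contra h
  obtain ⟨w, hw⟩ := PowerSeries.isUnit_iff_constantCoeff.mpr (Ne.isUnit h)
  have h1 : Valued.v ((G : K⸨X⸩) * ((↑w⁻¹ : PowerSeries K) : K⸨X⸩)) = 1 := by
    rw [← PowerSeries.coe_mul, ← hw, Units.mul_inv, PowerSeries.coe_one, map_one]
  rw [map_mul] at h1
  exact (mul_lt_one_of_lt_of_le hG (valuation_coe_le_one _)).ne h1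

/-- A power series which is a rational function has a denominator not vanishing at the origin. -/
theorem denom_eval_ne_zero {w : RatFunc K} {F : PowerSeries K} (h : (F : K⸨X⸩) = (w : K⸨X⸩)) :
    w.denom.eval 0 ≠ 0 ∧ w.num.eval 0 = PowerSeries.constantCoeff F * w.denom.eval 0 ∧
      (F : K⸨X⸩) * algebraMap K[X] K⸨X⸩ w.denom = algebraMap K[X] K⸨X⸩ w.num := by
  have hd : algebraMap K[X] (RatFunc K) w.denom ≠ 0 :=
    RatFunc.algebraMap_ne_zero w.denom_ne_zero
  have e1 : (F : K⸨X⸩) * algebraMap K[X] K⸨X⸩ w.denom = algebraMap K[X] K⸨X⸩ w.num := by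
    rw [h, IsScalarTower.algebraMap_apply K[X] (RatFunc K) K⸨X⸩ w.denom,
      IsScalarTower.algebraMap_apply K[X] (RatFunc K) K⸨X⸩ w.num]
    conv_lhs => rw [← map_mul]
    congr 1
    conv_lhs => enter [1]; rw [← RatFunc.num_div_denom w]
    rw [div_mul_cancel₀ _ hd]
  have e2 : F * (w.denom : PowerSeries K) = (w.num : PowerSeries K) := by
    apply HahnSeries.ofPowerSeries_injective (Γ := ℤ)
    rw [map_mul]
    exact e1
  have e3 : PowerSeries.constantCoeff F * w.denom.eval 0 = w.num.eval 0 := by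
    have := congrArg PowerSeries.constantCoeff e2
    rw [map_mul, Polynomial.constantCoeff_coe, Polynomial.constantCoeff_coe] at this
    rwa [← Polynomial.coeff_zero_eq_eval_zero, ← Polynomial.coeff_zero_eq_eval_zero]
  refine ⟨fun hd0 => ?_, e3.symm, e1⟩
  have hn0 : w.num.eval 0 = 0 := by rw [← e3, hd0, mul_zero]
  refine Polynomial.not_isUnit_X (R := K) ((RatFunc.isCoprime_num_denom w).isUnit_of_dvd' ?_ ?_)
  · rwa [Polynomial.X_dvd_iff, Polynomial.coeff_zero_eq_eval_zero]
  · rwa [Polynomial.X_dvd_iff, Polynomial.coeff_zero_eq_eval_zero]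

/-- The embedding of the base field into Laurent series. -/
noncomputable def ρ (k K : Type u) [Field k] [Field K] [Algebra k K] : k →+* K⸨X⸩ :=
  (algebraMap K[X] K⸨X⸩).comp (Polynomial.C.comp (algebraMap k K))

/-- An arc through a point, valued in an open of affine space over rational functions, can be replaced
by an arc defined on an open of the affine line. -/
theorem exists_line {n : ℕ} (θ : k →+* B) (S : Finset B)
    (hS : Subring.closure (Set.range θ ∪ ↑S) = ⊤)
    (h : MvPolynomial (Fin n) k) (β : B →+* Localization.Away h)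
    (hβ : β.comp θ = algebraMap k (Localization.Away h))
    (γ : B →+* PowerSeries K) (hγ : γ.comp θ = (PowerSeries.C).comp (algebraMap k K))
    (c : Fin n → K⸨X⸩) (hc : IsUnit (MvPolynomial.eval₂Hom (ρ k K) c h))
    (hcomp : ∀ y, IsLocalization.Away.lift (S := Localization.Away h) h hc (β y) = (γ y : K⸨X⸩))
    (b0 : B) (hb0 : γ b0 ≠ 0) :
    ∃ (q : K[X]) (φ : B →+* Localization.Away q) (e : Localization.Away q →+* K),
      q.eval 0 ≠ 0 ∧ φ.comp θ = (algebraMap K[X] _).comp (Polynomial.C.comp (algebraMap k K)) ∧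
      e.comp (algebraMap K[X] _) = Polynomial.evalRingHom 0 ∧
      e.comp φ = (PowerSeries.constantCoeff).comp γ ∧ φ b0 ≠ 0 := by
  classical
  choose m hm using fun y : B => IsLocalization.Away.surj h (β y)
  choose p hp using hm
  let E (f : MvPolynomial (Fin n) k) : (Fin n → K⸨X⸩) → K⸨X⸩ := fun z =>
    MvPolynomial.eval₂Hom (ρ k K) z f
  have hE : ∀ f, Continuous (E f) := by
    intro f
    have : E f = fun z => MvPolynomial.eval z (MvPolynomial.map (ρ k K) f) := by
      funext z
      simp [E, MvPolynomial.eval_map]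
    rw [this]
    exact MvPolynomial.continuous_eval _
  have hval : ∀ (z : Fin n → K⸨X⸩) (hz : IsUnit (E h z)) (y : B),
      IsLocalization.Away.lift (S := Localization.Away h) h (g := MvPolynomial.eval₂Hom (ρ k K) z) hz
        (β y) = E (p y) z / E h z ^ m y := by
    intro z hz y
    rw [eq_div_iff (pow_ne_zero _ hz.ne_zero)]
    have := congrArg (IsLocalization.Away.lift (S := Localization.Away h) h
      (g := MvPolynomial.eval₂Hom (ρ k K) z) hz) (hp y)
    rwa [map_mul, map_pow, IsLocalization.Away.lift_eq, IsLocalization.Away.lift_eq] at this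
  have hcont : ∀ y, ContinuousAt (fun z => E (p y) z / E h z ^ m y) c := fun y =>
    ((hE _).continuousAt).div ((hE _).continuousAt.pow _) (pow_ne_zero _ hc.ne_zero)
  have hcy : ∀ y, E (p y) c / E h c ^ m y = (γ y : K⸨X⸩) := fun y =>
    (hval c hc y).symm.trans (hcomp y)
  -- a good neighbourhood
  have n1 : ∀ᶠ z in nhds c, E h z ≠ 0 := (hE h).continuousAt.eventually_ne hc.ne_zero
  have n2 : ∀ᶠ z in nhds c, E (p b0) z / E h z ^ m b0 ≠ 0 :=
    (hcont b0).eventually_ne (by
      rw [hcy b0]
      exact fun h0 => hb0 (HahnSeries.ofPowerSeries_injective (h0.trans (map_zero _).symm)))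
  have n3 : ∀ᶠ z in nhds c, ∀ y ∈ S,
      Valued.v (E (p y) z / E h z ^ m y - (γ y : K⸨X⸩)) < 1 := by
    refine (Filter.eventually_all_finset S).mpr fun y _ => ?_
    have hy : {t : K⸨X⸩ | Valued.v (t - (γ y : K⸨X⸩)) < 1} ∈ nhds (E (p y) c / E h c ^ m y) := by
      rw [hcy y, Valued.mem_nhds]
      exact ⟨1, fun t ht => (Valuation.restrict_lt_one_iff (v := Valued.v)).mp ht⟩
    exact (hcont y).preimage_mem_nhds hy
  obtain ⟨N, hN, hNo, hcN⟩ := eventually_nhds_iff.mp (n1.and (n2.and n3))
  obtain ⟨P, hP⟩ := (DenseRange.piMap fun _ : Fin n => LaurentSeries.coe_range_dense (K := K)).exists_mem_open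
    hNo ⟨c, hcN⟩
  obtain ⟨h1, h2, h3⟩ := hN _ hP
  let z : Fin n → K⸨X⸩ := fun i => (P i : K⸨X⸩)
  have hzu : IsUnit (E h z) := Ne.isUnit h1
  let Lz := IsLocalization.Away.lift (S := Localization.Away h) h
    (g := MvPolynomial.eval₂Hom (ρ k K) z) hzu
  let φ1 : B →+* K⸨X⸩ := Lz.comp β
  have hφ1 : ∀ y, φ1 y = E (p y) z / E h z ^ m y := fun y => hval z hzu y
  have hφθ : ∀ r, φ1 (θ r) = ρ k K r := fun r => by
    show Lz (β (θ r)) = _
    rw [← RingHom.comp_apply β θ, hβ,
      IsScalarTower.algebraMap_apply k (MvPolynomial (Fin n) k) (Localization.Away h)]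
    rw [IsLocalization.Away.lift_eq]
    exact MvPolynomial.eval₂Hom_C _ _ r
  -- the values are rational functions
  have hrat : ∀ y, ∃ w : RatFunc K, φ1 y = (w : K⸨X⸩) := by
    let σ : RatFunc K →+* K⸨X⸩ := algebraMap _ _
    have : ∀ f, E f z = σ (MvPolynomial.eval₂Hom
        ((algebraMap K[X] (RatFunc K)).comp (Polynomial.C.comp (algebraMap k K))) P f) := by
      intro f
      show MvPolynomial.eval₂Hom (ρ k K) z f = _
      rw [← RingHom.comp_apply σ]
      congr 1
      refine MvPolynomial.ringHom_ext (fun a => ?_) (fun i => ?_)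
      · rw [MvPolynomial.eval₂Hom_C, RingHom.comp_apply, MvPolynomial.eval₂Hom_C]
        exact IsScalarTower.algebraMap_apply K[X] (RatFunc K) K⸨X⸩ _
      · simp [z, σ]
    intro y
    rw [hφ1, this, this, ← map_pow, ← map_div₀]
    exact ⟨_, rfl⟩
  have hS' : ∀ y ∈ S, ∃ (nu de : K[X]), de.eval 0 ≠ 0 ∧
      nu.eval 0 = PowerSeries.constantCoeff (γ y) * de.eval 0 ∧
      φ1 y * algebraMap K[X] K⸨X⸩ de = algebraMap K[X] K⸨X⸩ nu := by
    intro y hy
    obtain ⟨w, hw⟩ := hrat y
    have hv : Valued.v (φ1 y - (γ y : K⸨X⸩)) < 1 := by rw [hφ1]; exact h3 y hy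
    have hle : Valued.v (φ1 y) ≤ (1 : WithZero (Multiplicative ℤ)) := by
      rw [← sub_add_cancel (φ1 y) (γ y : K⸨X⸩)]
      exact (Valued.v.map_add _ _).trans (max_le hv.le (valuation_coe_le_one _))
    obtain ⟨F, hF⟩ := (LaurentSeries.val_le_one_iff_eq_coe K _).mp hle
    have hF0 : PowerSeries.constantCoeff F = PowerSeries.constantCoeff (γ y) := by
      rw [← sub_eq_zero, ← map_sub]
      apply constantCoeff_eq_zero_of_valuation_lt_one
      rw [PowerSeries.coe_sub, hF]
      exact hv
    obtain ⟨g1, g2, g3⟩ := denom_eval_ne_zero (hF.trans hw)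
    exact ⟨_, _, g1, hF0 ▸ g2, hF ▸ g3⟩
  choose nu de hde hnu heq using hS'
  let q : K[X] := ∏ y ∈ S.attach, de y.1 y.2
  have hq0 : q.eval 0 ≠ 0 := by
    rw [Polynomial.eval_prod]
    exact Finset.prod_ne_zero_iff.mpr fun y _ => hde y.1 y.2
  have hq : q ≠ 0 := fun h0 => hq0 (by rw [h0, Polynomial.eval_zero])
  have hinj : Function.Injective (algebraMap K[X] K⸨X⸩) :=
    FaithfulSMul.algebraMap_injective _ _
  have hqu : IsUnit (algebraMap K[X] K⸨X⸩ q) :=
    Ne.isUnit fun h0 => hq (hinj (h0.trans (map_zero _).symm))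
  let j : Localization.Away q →+* K⸨X⸩ := IsLocalization.Away.lift q hqu
  have hj : ∀ f, j (algebraMap K[X] _ f) = algebraMap K[X] K⸨X⸩ f := fun f =>
    IsLocalization.Away.lift_eq _ _ _
  have hjinj : Function.Injective j := by
    rw [injective_iff_map_eq_zero]
    intro x hx
    obtain ⟨l, f, hl⟩ := IsLocalization.Away.surj q x
    have hf := congrArg j hl
    rw [map_mul, hx, zero_mul, hj] at hf
    have : f = 0 := hinj (hf.symm.trans (map_zero _).symm)
    rw [this, map_zero] at hl
    exact ((IsLocalization.Away.algebraMap_isUnit q).pow l).mul_left_eq_zero.mp hl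
  have hrange : ∀ y, φ1 y ∈ j.range := by
    intro y
    have : Subring.closure (Set.range θ ∪ ↑S) ≤ j.range.comap φ1 := by
      rw [Subring.closure_le]
      rintro x (⟨r, rfl⟩ | hx)
      · exact ⟨_, (hj (Polynomial.C (algebraMap k K r))).trans (hφθ r).symm⟩
      · have hdu : IsUnit (algebraMap K[X] (Localization.Away q) (de x hx)) :=
          isUnit_of_dvd_unit (map_dvd _ (Finset.dvd_prod_of_mem (fun y => de y.1 y.2)
            (Finset.mem_attach S ⟨x, hx⟩))) (IsLocalization.Away.algebraMap_isUnit q)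
        refine ⟨algebraMap K[X] _ (nu x hx) * ↑hdu.unit⁻¹, ?_⟩
        have h4 := congrArg j (Units.mul_inv hdu.unit)
        rw [map_mul, map_one, IsUnit.unit_spec, hj] at h4
        rw [map_mul, hj, ← heq x hx, mul_assoc, h4, mul_one]
    rw [hS] at this
    exact this (Subring.mem_top y)
  choose φ0 hφ0 using hrange
  let φ : B →+* Localization.Away q :=
    { toFun := φ0
      map_one' := hjinj (by rw [hφ0, map_one, map_one])
      map_mul' := fun a b => hjinj (by rw [map_mul, hφ0, hφ0, hφ0, map_mul])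
      map_zero' := hjinj (by rw [hφ0, map_zero, map_zero])
      map_add' := fun a b => hjinj (by rw [map_add, hφ0, hφ0, hφ0, map_add]) }
  have hjφ : ∀ y, j (φ y) = φ1 y := hφ0
  have hu0 : IsUnit (Polynomial.evalRingHom 0 q) := Ne.isUnit hq0
  refine ⟨q, φ, IsLocalization.Away.lift q hu0, hq0, ?_, IsLocalization.Away.lift_comp _ _, ?_, ?_⟩
  · refine RingHom.ext fun r => hjinj ?_
    rw [RingHom.comp_apply, RingHom.comp_apply, hjφ, hj]
    exact hφθ r
  · refine RingHom.ext fun y => ?_
    refine RingHom.eqOn_set_closure (s := Set.range θ ∪ ↑S) ?_ (hS ▸ Subring.mem_top y)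
    rintro x (⟨r, rfl⟩ | hx)
    · have h5 : φ (θ r) = algebraMap K[X] _ (Polynomial.C (algebraMap k K r)) := by
        refine hjinj ?_
        rw [hjφ, hj]
        exact hφθ r
      rw [RingHom.comp_apply, RingHom.comp_apply, h5, IsLocalization.Away.lift_eq,
        ← RingHom.comp_apply γ θ, hγ]
      simp
    · have h6 : φ x * algebraMap K[X] _ (de x hx) = algebraMap K[X] _ (nu x hx) := by
        refine hjinj ?_
        rw [map_mul, hjφ, hj, hj, heq x hx]
      have h7 := congrArg (IsLocalization.Away.lift (S := Localization.Away q) q hu0) h6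
      rw [map_mul, IsLocalization.Away.lift_eq, IsLocalization.Away.lift_eq,
        Polynomial.coe_evalRingHom, hnu x hx] at h7
      exact mul_right_cancel₀ (hde x hx) h7
  · intro h8
    have := hjφ b0
    rw [h8, map_zero, hφ1] at this
    exact h2 this.symm

end Groth.Agent.Lib.Arc98.Approx
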