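import Mathlib.RingTheory.Smooth.AdicCompletion
import Mathlib.RingTheory.AdicCompletion.Completeness
import Mathlib.RingTheory.Etale.Basic
import Mathlib.RingTheory.Unramified.Finite
import Mathlib.RingTheory.RingHom.Etale
import Mathlib.RingTheory.RingHom.StandardSmooth
import Mathlib.RingTheory.Algebraic.Integral
import Mathlib.RingTheory.Flat.Basic
import Mathlib.RingTheory.Smooth.Flat
import Mathlib.Algebra.MvPolynomial.Funext
import Mathlib.RingTheory.PowerSeries.Inverse

/-! An algebraic arc through a rational point of a smooth integral affine variety, avoiding a given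
proper closed subset. -/

set_option autoImplicit false
universe u

open TensorProduct nonZeroDivisors

namespace Groth.Agent.Lib.Arc98.Arc

theorem isAlgebraic_of_etale (A R : Type u) [CommRing A] [IsDomain A] [CommRing R] [Algebra A R]
    [Algebra.Etale A R] (r : R) : IsAlgebraic A r := by
  let F := FractionRing A
  have : Module.Finite F (F ⊗[A] R) := Algebra.FormallyUnramified.finite_of_free F (F ⊗[A] R)
  have h1 : IsAlgebraic F ((1 : F) ⊗ₜ[A] r) := (Algebra.IsIntegral.isIntegral _).isAlgebraic
  rw [← IsFractionRing.isAlgebraic_iff A F] at h1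
  exact (isAlgebraic_algHom_iff (Algebra.TensorProduct.includeRight : R →ₐ[A] F ⊗[A] R)
    (Algebra.TensorProduct.includeRight_injective (IsFractionRing.injective A F))).mp h1

/-- The lift of an injective map along an etale extension of domains is injective. -/
theorem injective_of_etale {A R S : Type u} [CommRing A] [IsDomain A] [CommRing R] [IsDomain R]
    [Algebra A R] [Algebra.Etale A R] [CommRing S] [Algebra A S]
    (hS : Function.Injective (algebraMap A S)) (L : R →ₐ[A] S) : Function.Injective L := by
  rw [injective_iff_map_eq_zero]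
  intro r hr
  by_contra hr0
  obtain ⟨p, hp, c, hc⟩ := (isAlgebraic_of_etale A R r).exists_nonzero_dvd
    (mem_nonZeroDivisors_of_ne_zero hr0)
  refine hp (hS ?_)
  rw [map_zero, ← L.commutes, hc, map_mul, hr, zero_mul]

variable {K R : Type u} [Field K] [Infinite K] [CommRing R] [IsDomain R] [Algebra K R]

/-- Through every `K`-point of a smooth integral affine `K`-variety there is an arc on which a given
nonzero function does not vanish. -/
theorem exists_arc (hR : (algebraMap K R).IsStandardSmooth) (x : R →ₐ[K] K) {s : R} (hs : s ≠ 0) :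
    ∃ γ : R →ₐ[K] PowerSeries K, (∀ r, PowerSeries.constantCoeff (γ r) = x r) ∧ γ s ≠ 0 := by
  obtain ⟨d, g, hgC, hg⟩ := RingHom.IsStandardSmooth.exists_etale_mvPolynomial hR
  letI : Algebra (MvPolynomial (Fin d) K) R := g.toAlgebra
  haveI : Algebra.Etale (MvPolynomial (Fin d) K) R := hg
  let φ : MvPolynomial (Fin d) K →+* PowerSeries (MvPolynomial (Fin d) K) :=
    MvPolynomial.eval₂Hom ((PowerSeries.C (R := MvPolynomial (Fin d) K)).comp MvPolynomial.C)
      fun i => PowerSeries.C (MvPolynomial.C (x (g (MvPolynomial.X i)))) +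
        PowerSeries.X * PowerSeries.C (MvPolynomial.X i)
  letI : Algebra (MvPolynomial (Fin d) K) (PowerSeries (MvPolynomial (Fin d) K)) := φ.toAlgebra
  -- injectivity of the generic line
  have hφ : Function.Injective φ := by
    rw [injective_iff_map_eq_zero]
    intro p hp
    refine MvPolynomial.funext fun v => ?_
    rw [map_zero]
    let c : Fin d → K := fun i => x (g (MvPolynomial.X i))
    let e : MvPolynomial (Fin d) K →+* K := MvPolynomial.eval fun i => v i - c i
    have key : ((Polynomial.coeToPowerSeries.ringHom (R := K)).comp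
        (MvPolynomial.eval₂Hom Polynomial.C fun i =>
          Polynomial.C (c i) + Polynomial.X * Polynomial.C (v i - c i))) =
        (PowerSeries.map e).comp φ := by
      refine MvPolynomial.ringHom_ext (fun a => ?_) (fun i => ?_)
      · simp [φ, e]
      · simp [φ, e, c]
    have h2 := RingHom.congr_fun key p
    rw [RingHom.comp_apply, RingHom.comp_apply, hp, map_zero,
      Polynomial.coeToPowerSeries.ringHom_apply, Polynomial.coe_eq_zero_iff] at h2
    have h3 := congrArg (Polynomial.evalRingHom (1 : K)) h2
    rw [map_zero] at h3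
    rw [← h3, ← RingHom.comp_apply]
    congr 1
    refine MvPolynomial.ringHom_ext (fun a => ?_) (fun i => ?_)
    · simp
    · simp
  -- the point modulo the parameter
  let I : Ideal (PowerSeries (MvPolynomial (Fin d) K)) := Ideal.span {PowerSeries.X}
  let f0 : R →+* PowerSeries (MvPolynomial (Fin d) K) ⧸ I :=
    (Ideal.Quotient.mk I).comp (((PowerSeries.C (R := MvPolynomial (Fin d) K)).comp MvPolynomial.C).comp x.toRingHom)
  have hf0 : ∀ p : MvPolynomial (Fin d) K, f0 (g p) = Ideal.Quotient.mk I (φ p) := by
    intro p
    suffices h : f0.comp g = (Ideal.Quotient.mk I).comp φ from RingHom.congr_fun h p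
    refine MvPolynomial.ringHom_ext (fun a => ?_) (fun i => ?_)
    · have : g (MvPolynomial.C a) = algebraMap K R a := RingHom.congr_fun hgC a
      simp only [RingHom.comp_apply, f0, φ, MvPolynomial.eval₂Hom_C, this]
      simp
    · simp only [RingHom.comp_apply, f0, φ, MvPolynomial.eval₂Hom_X']
      rw [Ideal.Quotient.eq]
      rw [Ideal.mem_span_singleton]
      exact ⟨-PowerSeries.C (MvPolynomial.X i), by rw [mul_neg]; exact sub_add_cancel_left _ _⟩
  let f1 : R →ₐ[MvPolynomial (Fin d) K] PowerSeries (MvPolynomial (Fin d) K) ⧸ I :=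
    { f0 with commutes' := fun p => (hf0 p) }
  obtain ⟨L, hL⟩ := Algebra.FormallySmooth.exists_mkₐ_comp_eq_of_isAdicComplete (I := I) f1
  have hLinj : Function.Injective L := injective_of_etale hφ L
  have hLs : L s ≠ 0 := fun h => hs (hLinj (h.trans (map_zero L).symm))
  obtain ⟨m, hm⟩ := PowerSeries.exists_coeff_ne_zero_iff_ne_zero.mpr hLs
  obtain ⟨v, hv⟩ : ∃ v : Fin d → K, MvPolynomial.eval v (PowerSeries.coeff m (L s)) ≠ 0 := by
    by_contra! h
    exact hm (MvPolynomial.funext fun v => by rw [h v, map_zero])
  refine ⟨{ (PowerSeries.map (MvPolynomial.eval v)).comp L.toRingHom with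
      commutes' := fun a => ?_ }, fun r => ?_, ?_⟩
  · show PowerSeries.map (MvPolynomial.eval v) (L (algebraMap K R a)) = algebraMap K _ a
    rw [← RingHom.congr_fun hgC a]
    show PowerSeries.map (MvPolynomial.eval v) (L (algebraMap (MvPolynomial (Fin d) K) R
      (MvPolynomial.C a))) = _
    rw [L.commutes]
    show PowerSeries.map (MvPolynomial.eval v) (φ (MvPolynomial.C a)) = _
    simp [φ, PowerSeries.algebraMap_apply]
  · show PowerSeries.constantCoeff (PowerSeries.map (MvPolynomial.eval v) (L r)) = x r
    have h := DFunLike.congr_fun hL r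
    have h' : Ideal.Quotient.mk I (L r) = f0 r := h
    simp only [f0, RingHom.comp_apply] at h'
    rw [Ideal.Quotient.eq, Ideal.mem_span_singleton, PowerSeries.X_dvd_iff, map_sub, sub_eq_zero,
      PowerSeries.constantCoeff_C] at h'
    rw [← PowerSeries.coeff_zero_eq_constantCoeff_apply, PowerSeries.coeff_map,
      PowerSeries.coeff_zero_eq_constantCoeff_apply, h']
    simp
  · intro h
    refine hv ?_
    rw [← PowerSeries.coeff_map]
    exact (congrArg (PowerSeries.coeff m) h).trans (map_zero _)

end Groth.Agent.Lib.Arc98.Arc
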