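import Groth.Agent.Lib.Arc98.Arc
import Groth.Agent.Lib.Arc98.Approx
import Groth.Agent.Lib.H75.REq.Basic
import Mathlib.AlgebraicGeometry.Morphisms.Smooth
import Mathlib.AlgebraicGeometry.Geometrically.Integral

/-! On a smooth geometrically integral retract rational variety, every point over an infinite field
is linked to a point of any given nonempty open. -/

set_option autoImplicit false
universe u

open AlgebraicGeometry CategoryTheory CategoryTheory.Limits
open scoped TensorProduct LaurentSeries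

namespace Groth.Agent.Lib.Arc98.Main

open Groth.Agent.Lib.H75.REq.Basic

theorem notMem_asIdeal {A L : Type u} [CommRing A] [Field L] (ψ : A →+* L) (g : A) (hg : ψ g ≠ 0)
    (s : Spec (CommRingCat.of L)) : g ∉ ((Spec.map (CommRingCat.ofHom ψ)) s).asIdeal :=
  fun h => s.isPrime.ne_top (Ideal.eq_top_of_isUnit_mem _ (show ψ g ∈ s.asIdeal from h) hg.isUnit)

/-- A morphism from an open of the affine line links its rational points. -/
theorem elemLink_of_away {k K : Type u} [Field k] [Field K] [Algebra k K] {X : Scheme.{u}}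
    {f : X ⟶ Spec (CommRingCat.of k)} (q : Polynomial K)
    (l : Spec (CommRingCat.of (Localization.Away q)) ⟶ X)
    (hl : l ≫ f = Spec.map (CommRingCat.ofHom
      ((algebraMap (Polynomial K) (Localization.Away q)).comp Polynomial.C)) ≫ _root_.REq.specMap k K)
    (e0 e1 : Localization.Away q →+* K)
    (he0 : e0.comp ((algebraMap (Polynomial K) (Localization.Away q)).comp Polynomial.C) = RingHom.id K)
    (he1 : e1.comp ((algebraMap (Polynomial K) (Localization.Away q)).comp Polynomial.C) = RingHom.id K)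
    (A B : _root_.REq.Pts f K) (hA : Spec.map (CommRingCat.ofHom e0) ≫ l = A.1)
    (hB : Spec.map (CommRingCat.ofHom e1) ≫ l = B.1) : _root_.REq.ElemLink f K A B := by
  let σ : MvPolynomial (Fin 1) K ≃ₐ[K] Polynomial K := MvPolynomial.uniqueAlgEquiv K (Fin 1)
  haveI : IsIso (CommRingCat.ofHom (σ : MvPolynomial (Fin 1) K →+* Polynomial K)) :=
    σ.toRingEquiv.toCommRingCatIso.isIso_hom
  haveI : IsOpenImmersion (Spec.map (CommRingCat.ofHom (algebraMap (Polynomial K) (Localization.Away q)))) :=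
    IsOpenImmersion.of_isLocalization q
  let o : Spec (CommRingCat.of (Localization.Away q)) ⟶ _root_.REq.P1K K :=
    Spec.map (CommRingCat.ofHom (algebraMap (Polynomial K) (Localization.Away q))) ≫
      Spec.map (CommRingCat.ofHom (σ : MvPolynomial (Fin 1) K →+* Polynomial K)) ≫ lineι K
  have ho : o ≫ _root_.REq.P1K.toSpec K = Spec.map (CommRingCat.ofHom
      ((algebraMap (Polynomial K) (Localization.Away q)).comp Polynomial.C)) := by
    simp only [o, Category.assoc, lineι_toSpec, ← Spec.map_comp, ← CommRingCat.ofHom_comp]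
    congr 2
    refine RingHom.ext fun a => ?_
    show algebraMap (Polynomial K) (Localization.Away q) (σ (MvPolynomial.C a)) = _
    rw [← MvPolynomial.algebraMap_eq, σ.commutes]
    rfl
  have key : ∀ e : Localization.Away q →+* K,
      e.comp ((algebraMap (Polynomial K) (Localization.Away q)).comp Polynomial.C) = RingHom.id K →
      (Spec.map (CommRingCat.ofHom e) ≫ o.isoOpensRange.hom) ≫ o.opensRange.ι ≫
        _root_.REq.P1K.toSpec K = 𝟙 _ := by
    intro e he
    rw [Category.assoc, Scheme.Hom.isoOpensRange_hom_ι_assoc, ho, ← Spec.map_comp,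
      ← CommRingCat.ofHom_comp, he]
    exact Spec.map_id _
  refine ⟨o.opensRange, o.isoOpensRange.inv ≫ l, Spec.map (CommRingCat.ofHom e0) ≫ o.isoOpensRange.hom,
    Spec.map (CommRingCat.ofHom e1) ≫ o.isoOpensRange.hom, ?_, key e0 he0, key e1 he1, ?_, ?_⟩
  · rw [Category.assoc, hl, ← ho, Category.assoc, Scheme.Hom.isoOpensRange_inv_comp_assoc]
  · rw [Category.assoc, Iso.hom_inv_id_assoc, hA]
  · rw [Category.assoc, Iso.hom_inv_id_assoc, hB]

variable {k : Type u} [Field k] {X : Scheme.{u}} (f : X ⟶ Spec (CommRingCat.of k))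
  [GeometricallyIntegral f] [Smooth f]

/-- Every point over an infinite field is linked to a point in any given nonempty open. -/
theorem exists_elemLink_mem (hX : _root_.REq.IsRetractRational f) (W : X.Opens)
    (hW : (W : Set X).Nonempty) {K : Type u} [Field K] [Algebra k K] [Infinite K]
    (x : _root_.REq.Pts f K) :
    ∃ x' : _root_.REq.Pts f K, _root_.REq.InOpen f W x' ∧ _root_.REq.ElemLink f K x x' := by
  classical
  obtain ⟨U, n, V, a, b, hne, hab, ha, hb⟩ := hX
  haveI : IsIntegral X := GeometricallyIntegral.isIntegral_of_subsingleton f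
  obtain ⟨s0⟩ := (inferInstance : Nonempty (Spec (CommRingCat.of K)))
  obtain ⟨U0, hU0, V0, hV0, hpV0, e, he⟩ := Smooth.exists_isStandardSmooth f (x.1 s0)
  obtain rfl : U0 = ⊤ := by
    refine eq_top_iff.mpr fun y _ => ?_
    rw [Subsingleton.elim y (f (x.1 s0))]
    exact e hpV0
  -- the coordinate ring around the point
  let B : CommRingCat.{u} := Γ(X, V0)
  let θ : k →+* B :=
    ((Scheme.ΓSpecIso (CommRingCat.of k)).inv ≫ f.appLE ⊤ V0 e).hom
  let j : Spec B ⟶ X := hV0.fromSpec
  have hjf : j ≫ f = Spec.map (CommRingCat.ofHom θ) := by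
    have h1 := IsAffineOpen.SpecMap_appLE_fromSpec f hU0 hV0 e
    rw [IsAffineOpen.fromSpec_top, Scheme.isoSpec_Spec_inv, ← Spec.map_comp] at h1
    exact h1.symm
  have hθ : θ.IsStandardSmooth :=
    RingHom.isStandardSmooth_respectsIso.2 (f.appLE ⊤ V0 e).hom
      (Scheme.ΓSpecIso (CommRingCat.of k)).symm.commRingCatIsoToRingEquiv he
  letI : Algebra k B := θ.toAlgebra
  haveI : Algebra.IsStandardSmooth k B := hθ
  obtain ⟨S, hS⟩ := (inferInstance : Algebra.FiniteType k B).out
  have hS' : Subring.closure (Set.range θ ∪ ↑S) = ⊤ := by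
    show Subring.closure (Set.range (algebraMap k B) ∪ ↑S) = ⊤
    rw [← Algebra.adjoin_eq_ring_closure, hS, Algebra.top_toSubring]
  -- the point in coordinates
  have hxj : Set.range x.1 ⊆ Set.range j := by
    rintro _ ⟨s, rfl⟩
    rw [Subsingleton.elim s s0, show Set.range j = _ from hV0.range_fromSpec]
    exact hpV0
  obtain ⟨xB, hxB⟩ := Spec.homEquiv.symm.surjective (IsOpenImmersion.lift j x.1 hxj)
  have hxB' : Spec.map xB ≫ j = x.1 := by
    have h1 : Spec.map xB = IsOpenImmersion.lift j x.1 hxj := hxB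
    rw [h1]
    exact IsOpenImmersion.lift_fac _ _ _
  have hxθ : xB.hom.comp θ = algebraMap k K := by
    have h1 := x.2
    rw [← hxB', Category.assoc, hjf, ← Spec.map_comp] at h1
    exact congrArg CommRingCat.Hom.hom (Spec.map_injective h1)
  -- a function supported in the opens
  obtain ⟨p, hpU, hpW, hpV⟩ : ∃ p, p ∈ U ∧ p ∈ W ∧ p ∈ V0 := by
    obtain ⟨p, hp1, hp2⟩ := nonempty_preirreducible_inter U.2 (W.2.inter V0.2) hne
      (nonempty_preirreducible_inter W.2 V0.2 hW ⟨_, hpV0⟩)
    exact ⟨p, hp1, hp2⟩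
  obtain ⟨p', hp'⟩ : p ∈ Set.range j := by rw [show Set.range j = _ from hV0.range_fromSpec]; exact hpV
  obtain ⟨_, ⟨_, ⟨b0, rfl⟩, rfl⟩, hb0p, hb0UW⟩ :=
    PrimeSpectrum.isBasis_basic_opens.exists_subset_of_mem_open
      (show p' ∈ ((j ⁻¹ᵁ (U ⊓ W) : (Spec B).Opens) : Set (Spec B)) from
        ⟨hp' ▸ hpU, hp' ▸ hpW⟩) (j ⁻¹ᵁ (U ⊓ W)).2
  have hb0 : (b0 : B) ≠ 0 := fun h0 => hb0p (h0 ▸ zero_mem _)
  -- the base change is a smooth domain
  haveI : IsDomain (K ⊗[k] B) := by
    have hI : IsIntegral (pullback f (_root_.REq.specMap k K)) :=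
      GeometricallyIntegral.geometrically_isIntegral (f := f) _ _ _ (IsPullback.of_hasPullback _ _)
    let m := pullback.map (_root_.REq.specMap k K) (Spec.map (CommRingCat.ofHom θ))
      (_root_.REq.specMap k K) f (𝟙 _) j (𝟙 _) (by simp) (by rw [Category.comp_id, hjf])
    haveI : IsOpenImmersion m := inferInstance
    haveI : IsIntegral (pullback (_root_.REq.specMap k K) f) := by
      haveI : Nonempty ↥(pullback (_root_.REq.specMap k K) f) :=
        ⟨(pullbackSymmetry f (_root_.REq.specMap k K)).hom (Classical.arbitrary ↥(pullback f (_root_.REq.specMap k K)))⟩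
      exact isIntegral_of_isOpenImmersion (pullbackSymmetry _ _).hom
    haveI : Nonempty ↥(pullback (_root_.REq.specMap k K) (Spec.map (CommRingCat.ofHom θ))) :=
      ⟨pullback.lift (𝟙 (Spec (CommRingCat.of K))) (Spec.map xB)
        (by rw [Category.id_comp, ← Spec.map_comp]; exact congrArg Spec.map (CommRingCat.hom_ext (f := CommRingCat.ofHom θ ≫ xB)
          (g := CommRingCat.ofHom (algebraMap k K)) hxθ).symm) s0⟩
    haveI : IsIntegral (pullback (_root_.REq.specMap k K) (Spec.map (CommRingCat.ofHom θ))) :=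
      isIntegral_of_isOpenImmersion m
    have i := pullbackSpecIso k K B
    haveI : Nonempty ↥(Spec (CommRingCat.of (K ⊗[k] B))) :=
      ⟨i.hom (Classical.arbitrary ↥(pullback (_root_.REq.specMap k K) (Spec.map (CommRingCat.ofHom θ))))⟩
    exact (affine_isIntegral_iff (CommRingCat.of (K ⊗[k] B))).mp (isIntegral_of_isOpenImmersion i.inv)
  let xk : B →ₐ[k] K := { xB.hom with commutes' := RingHom.congr_fun hxθ }
  let xR : K ⊗[k] B →ₐ[K] K :=
    Algebra.TensorProduct.lift (Algebra.ofId K K) xk (fun _ _ => Commute.all _ _)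
  have hs : (1 : K) ⊗ₜ[k] (b0 : B) ≠ 0 := fun h0 => hb0
    (Algebra.TensorProduct.includeRight_injective (algebraMap k K).injective (h0.trans (map_zero _).symm))
  obtain ⟨γR, hγ0, hγs⟩ := Arc.exists_arc
    (RingHom.isStandardSmooth_algebraMap.mpr inferInstance) xR hs
  let γ : B →+* PowerSeries K :=
    γR.toRingHom.comp (Algebra.TensorProduct.includeRight : B →ₐ[k] K ⊗[k] B).toRingHom
  have hγθ : γ.comp θ = (PowerSeries.C).comp (algebraMap k K) := by
    refine RingHom.ext fun r => ?_
    show γR ((1 : K) ⊗ₜ[k] (algebraMap k B r)) = _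
    rw [Algebra.TensorProduct.tmul_one_eq_one_tmul r |>.symm]
    exact γR.commutes (algebraMap k K r)
  have hγx : (PowerSeries.constantCoeff).comp γ = xB.hom := by
    refine RingHom.ext fun y => ?_
    show PowerSeries.constantCoeff (γR ((1 : K) ⊗ₜ[k] y)) = _
    rw [hγ0]
    simp [xR, xk]
  let γ' : B →+* K⸨X⸩ := (HahnSeries.ofPowerSeries ℤ K).comp γ
  have hγ'b : γ' b0 ≠ 0 := fun h0 => hγs (HahnSeries.ofPowerSeries_injective (h0.trans (map_zero _).symm))
  have hγ'θ : γ'.comp θ = Approx.ρ k K := by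
    rw [RingHom.comp_assoc, hγθ]
    refine RingHom.ext fun r => ?_
    simp [Approx.ρ]
  have hrU : Set.range (Spec.map (CommRingCat.ofHom γ') ≫ j) ⊆ Set.range U.ι := by
    rw [Scheme.Opens.range_ι]
    rintro _ ⟨s, rfl⟩
    exact (hb0UW (notMem_asIdeal γ' b0 hγ'b s)).1
  let u := IsOpenImmersion.lift U.ι _ hrU
  have hu : u ≫ U.ι = Spec.map (CommRingCat.ofHom γ') ≫ j := IsOpenImmersion.lift_fac _ _ _
  obtain ⟨ψ, hψ⟩ := Spec.homEquiv.symm.surjective (u ≫ a ≫ V.ι)
  have hψ' : Spec.map ψ = u ≫ a ≫ V.ι := hψ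
  have hψC : ψ.hom.comp (algebraMap k (MvPolynomial (Fin n) k)) = Approx.ρ k K := by
    have h1 : Spec.map ψ ≫ Spec.map (CommRingCat.ofHom (algebraMap k (MvPolynomial (Fin n) k))) =
        Spec.map (CommRingCat.ofHom γ') ≫ Spec.map (CommRingCat.ofHom θ) := by
      rw [hψ', Category.assoc, Category.assoc, ha, ← hjf, reassoc_of% hu]
    rw [← Spec.map_comp, ← Spec.map_comp] at h1
    exact (congrArg CommRingCat.Hom.hom (Spec.map_injective h1)).trans hγ'θ
  let c : Fin n → K⸨X⸩ := fun i => ψ.hom (MvPolynomial.X i)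
  have hψc : ψ.hom = MvPolynomial.eval₂Hom (Approx.ρ k K) c := by
    refine MvPolynomial.ringHom_ext (fun r => ?_) (fun i => by simp [c])
    rw [MvPolynomial.eval₂Hom_C]
    exact RingHom.congr_fun hψC r
  -- a chart of affine space
  obtain ⟨s1⟩ := (inferInstance : Nonempty (Spec (CommRingCat.of K⸨X⸩)))
  let Z := V.ι ''ᵁ (b ⁻¹ᵁ (U.ι ⁻¹ᵁ V0))
  have hZ : Spec.map ψ s1 ∈ Z := by
    refine ⟨a (u s1), ?_, ?_⟩
    · show U.ι (b (a (u s1))) ∈ V0
      rw [← Scheme.Hom.comp_apply a b, hab]
      show U.ι (u s1) ∈ V0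
      rw [← Scheme.Hom.comp_apply u, hu,
        Scheme.Hom.comp_apply, ← SetLike.mem_coe, ← hV0.range_fromSpec]
      exact ⟨_, rfl⟩
    · rw [hψ']
      rfl
  obtain ⟨_, ⟨_, ⟨h, rfl⟩, rfl⟩, hh, hhZ⟩ :=
    PrimeSpectrum.isBasis_basic_opens.exists_subset_of_mem_open
      (show Spec.map ψ s1 ∈ (Z : Set (Spec (CommRingCat.of (MvPolynomial (Fin n) k)))) from hZ) Z.2
  let ιh := Spec.map (CommRingCat.ofHom (algebraMap (MvPolynomial (Fin n) k) (Localization.Away h)))
  have hιh : Set.range ιh ⊆ (Z : Set (Spec (CommRingCat.of (MvPolynomial (Fin n) k)))) :=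
    (PrimeSpectrum.localization_away_comap_range (Localization.Away h) h).trans_subset hhZ
  have hιV : Set.range ιh ⊆ Set.range V.ι := hιh.trans (Set.image_subset_range _ _)
  let lv := IsOpenImmersion.lift V.ι ιh hιV
  have hlv : lv ≫ V.ι = ιh := IsOpenImmersion.lift_fac _ _ _
  have hlvY : Set.range (lv ≫ b ≫ U.ι) ⊆ Set.range j := by
    rw [show Set.range j = _ from hV0.range_fromSpec]
    rintro _ ⟨s, rfl⟩
    obtain ⟨v, hv, hv'⟩ := hιh ⟨s, rfl⟩
    rw [← hlv, Scheme.Hom.comp_apply] at hv'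
    rw [Scheme.Hom.comp_apply, ← V.ι.isOpenEmbedding.injective hv']
    exact hv
  obtain ⟨β, hβ⟩ := Spec.homEquiv.symm.surjective (IsOpenImmersion.lift j _ hlvY)
  have hβ' : Spec.map β ≫ j = lv ≫ b ≫ U.ι := by
    have h1 : Spec.map β = IsOpenImmersion.lift j _ hlvY := hβ
    rw [h1]
    exact IsOpenImmersion.lift_fac _ _ _
  have hβθ : β.hom.comp θ = algebraMap k (Localization.Away h) := by
    have h1 : Spec.map β ≫ Spec.map (CommRingCat.ofHom θ) =
        ιh ≫ Spec.map (CommRingCat.ofHom (algebraMap k (MvPolynomial (Fin n) k))) := by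
      rw [← hjf, reassoc_of% hβ', hb, reassoc_of% hlv]
    rw [← Spec.map_comp, ← Spec.map_comp] at h1
    rw [IsScalarTower.algebraMap_eq k (MvPolynomial (Fin n) k) (Localization.Away h)]
    exact congrArg CommRingCat.Hom.hom (Spec.map_injective h1)
  have hc : IsUnit (MvPolynomial.eval₂Hom (Approx.ρ k K) c h) := by
    rw [← hψc]
    exact Ne.isUnit fun h0 => hh (show ψ.hom h ∈ s1.asIdeal from h0 ▸ zero_mem _)
  have hcomp : ∀ y, IsLocalization.Away.lift (S := Localization.Away h) h hc (β.hom y) =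
      (γ y : K⸨X⸩) := by
    let L := CommRingCat.ofHom (IsLocalization.Away.lift (S := Localization.Away h) h hc)
    have h2 : Spec.map L ≫ lv = u ≫ a := by
      rw [← cancel_mono V.ι, Category.assoc, Category.assoc, hlv, ← hψ', ← Spec.map_comp]
      congr 1
      refine CommRingCat.hom_ext ?_
      rw [hψc]
      exact IsLocalization.Away.lift_comp (S := Localization.Away h) h hc
    have h3 : Spec.map L ≫ Spec.map β = Spec.map (CommRingCat.ofHom γ') := by
      rw [← cancel_mono j, Category.assoc, hβ', reassoc_of% h2, reassoc_of% hab, hu]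
    rw [← Spec.map_comp] at h3
    exact fun y => congr($(Spec.map_injective h3) y)
  obtain ⟨q, φ, e0, hq0, hφθ, he0, he0φ, hφb⟩ := Approx.exists_line θ S hS' h β.hom hβθ γ hγθ c hc
    hcomp b0 (fun h0 => hγs h0)
  -- a second parameter value
  obtain ⟨l, num, hl⟩ := IsLocalization.Away.surj q (φ b0)
  have hnum : num ≠ 0 := fun h0 => hφb <| by
    rw [h0, map_zero] at hl
    exact ((IsLocalization.Away.algebraMap_isUnit q).pow l).mul_left_eq_zero.mp hl
  obtain ⟨t, ht⟩ : ∃ t : K, Polynomial.eval t (num * q) ≠ 0 := by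
    by_contra! h0
    refine mul_ne_zero hnum (fun hq => hq0 (by rw [hq, Polynomial.eval_zero]))
      (Polynomial.funext (p := num * q) (q := 0) fun t => ?_)
    rw [h0 t, Polynomial.eval_zero]
  rw [Polynomial.eval_mul, mul_ne_zero_iff] at ht
  have htq : IsUnit (Polynomial.evalRingHom t q) := Ne.isUnit ht.2
  let e1 : Localization.Away q →+* K := IsLocalization.Away.lift q htq
  have he1b : e1 (φ b0) ≠ 0 := fun h0 => ht.1 <| by
    have h1 := congrArg e1 hl
    rw [map_mul, h0, zero_mul, IsLocalization.Away.lift_eq] at h1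
    exact h1.symm
  have hid : ∀ (r : K) (e : Localization.Away q →+* K),
      e.comp (algebraMap (Polynomial K) _) = Polynomial.evalRingHom r →
      e.comp ((algebraMap (Polynomial K) (Localization.Away q)).comp Polynomial.C) = RingHom.id K := by
    intro r e he
    rw [← RingHom.comp_assoc, he]
    exact RingHom.ext fun _ => Polynomial.eval_C
  have he0' := hid 0 e0 he0
  have he1' := hid t e1 (IsLocalization.Away.lift_comp _ _)
  let line : Spec (CommRingCat.of (Localization.Away q)) ⟶ X := Spec.map (CommRingCat.ofHom φ) ≫ j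
  have hline : line ≫ f = Spec.map (CommRingCat.ofHom
      ((algebraMap (Polynomial K) (Localization.Away q)).comp Polynomial.C)) ≫
        _root_.REq.specMap k K := by
    rw [Category.assoc, hjf, ← Spec.map_comp, ← Spec.map_comp, ← CommRingCat.ofHom_comp,
      ← CommRingCat.ofHom_comp, hφθ]
  let x' : _root_.REq.Pts f K := ⟨Spec.map (CommRingCat.ofHom e1) ≫ line, by
    rw [Category.assoc, hline, ← Spec.map_comp_assoc, ← CommRingCat.ofHom_comp, he1']
    exact (Spec.map_id _).symm ▸ Category.id_comp _⟩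
  refine ⟨x', ?_, elemLink_of_away q line hline e0 e1 he0' he1' x x' ?_ rfl⟩
  · rintro _ ⟨s, rfl⟩
    exact (hb0UW (fun hm => notMem_asIdeal (e1.comp φ) b0 he1b s hm)).2
  · show Spec.map (CommRingCat.ofHom e0) ≫ Spec.map (CommRingCat.ofHom φ) ≫ j = x.1
    rw [← Spec.map_comp_assoc, ← CommRingCat.ofHom_comp, he0φ, hγx]
    exact hxB'

end Groth.Agent.Lib.Arc98.Main
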